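import Cfsg.Agent.StB.Hecke
import Cfsg.Agent.CharLib.Degrees
/-!
# Blocks of a split BN-pair in the defining characteristic
-/
set_option autoImplicit false
set_option linter.unusedSectionVars false

namespace Cfsg.Agent.StB
open Cfsg Cfsg.Agent.CharLib

theorem exists_fixed_vec {G k V : Type*} [Group G] [Finite G] [Field k] [AddCommGroup V] [Module k V]
    [Nontrivial V] {p : ℕ} [Fact p.Prime] [CharP k p] (ρ : Representation k G V) {U : Subgroup G}
    (hU : IsPGroup p U) : ∃ v, v ≠ 0 ∧ ∀ u ∈ U, ρ u v = v := by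
  obtain ⟨v, hv⟩ := exists_ne (0 : V)
  set X := AddSubgroup.closure (Set.range fun g : G => ρ g v)
  have hp : ∀ w : V, p • w = 0 := fun w => by
    rw [← Nat.cast_smul_eq_nsmul k, CharP.cast_eq_zero, zero_smul]
  have hfg : AddGroup.FG X := (AddGroup.fg_iff_addSubgroup_fg X).2
    ((AddSubgroup.fg_iff X).2 ⟨_, rfl, Set.finite_range _⟩)
  have hfin : Finite X := AddCommGroup.finite_of_fg_isAddTorsion X fun w =>
    isOfFinAddOrder_iff_nsmul_eq_zero.2 ⟨p, (Fact.out : p.Prime).pos, Subtype.ext (hp _)⟩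
  have hst : ∀ g : G, ∀ w ∈ X, ρ g w ∈ X := by
    intro g w hw
    induction hw using AddSubgroup.closure_induction with
    | mem w hw =>
      obtain ⟨a, rfl⟩ := hw
      exact AddSubgroup.subset_closure ⟨g * a, by simp⟩
    | zero => simp
    | add a b _ _ ha hb => rw [map_add]; exact add_mem ha hb
    | neg a _ ha => rw [map_neg]; exact neg_mem ha
  let _ : MulAction U X :=
    { smul := fun u w => ⟨ρ u w, hst _ _ w.2⟩
      one_smul := fun w => Subtype.ext (show ρ _ _ = _ by simp)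
      mul_smul := fun a b w => Subtype.ext (show ρ _ _ = ρ _ (ρ _ _) by simp) }
  have hvX : v ∈ X := AddSubgroup.subset_closure ⟨1, by simp⟩
  have hd : p ∣ Nat.card X := by
    have h1 : addOrderOf (⟨v, hvX⟩ : X) = p :=
      addOrderOf_eq_prime (Subtype.ext (hp _)) fun h => hv (congrArg Subtype.val h)
    exact h1 ▸ addOrderOf_dvd_natCard _
  obtain ⟨b, hb, hb0⟩ := hU.exists_fixed_point_of_prime_dvd_card_of_fixed_point X hd (a := 0)
    (fun u => Subtype.ext (show ρ _ _ = _ by simp))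
  exact ⟨b, fun h => hb0 (Subtype.ext h.symm), fun u hu => congrArg Subtype.val (hb ⟨u, hu⟩)⟩

namespace SBN
variable {G : Type*} [Group G] {F : Type*} [Field F] {I : Type*} (S : SBN G F I)

/-- further properties of a split BN-pair of characteristic `p` -/
structure Good (p : ℕ) : Prop where
  pU : IsPGroup p S.U
  H_comm : ∀ a ∈ S.H, ∀ b ∈ S.H, a * b = b * a
  h_mul : ∀ i s t, S.h i (s * t) = S.h i s * S.h i t
  H_gen : S.H ≤ Subgroup.closure {g | ∃ i t, g = S.h i t}
  cent : ∀ i, ∃ Q : Subgroup G, Q ≤ S.U ∧ (∀ a ∈ S.H, ∀ y ∈ Q, a⁻¹ * y * a ∈ Q) ∧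
    (∀ j, j ≠ i → ∀ y ∈ Q, (S.n j)⁻¹ * y * S.n j ∈ Q) ∧
    ∀ m ∈ S.N, ∀ u ∈ S.U, (∀ y ∈ Q, y * (m * u) = m * u * y) → m ∈ Subgroup.center G

variable [Fintype G] [Fintype F] {p : ℕ} [Fact p.Prime]

theorem dvd_cc {Q : Subgroup G} (hQ : IsPGroup p Q) (hU : Q ≤ S.U) {m : G}
    (hm : ∀ y ∈ Q, m⁻¹ * y * m ∈ S.U) (hc : ∀ u ∈ S.U, ¬ ∀ y ∈ Q, y * (m * u) = m * u * y) (g : G) :
    p ∣ S.cc g m := by
  classical
  let X := {y : G // y ∈ (cls g).filter fun y : G => (y : G ⧸ S.U) = m}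
  let _ : MulAction Q X :=
    { smul := fun a y => ⟨a * y.1 * a⁻¹, by
        have hy := y.2
        rw [Finset.mem_filter, mem_cls] at hy ⊢
        refine ⟨hy.1.trans (isConj_iff.2 ⟨a, rfl⟩), ?_⟩
        refine (QuotientGroup.eq.2 ?_).symm
        have := mul_mem (mul_mem (hm a a.2) (QuotientGroup.eq.1 hy.2.symm)) (inv_mem (hU a.2))
        convert this using 1
        simp [mul_assoc]⟩
      one_smul := fun w => Subtype.ext (show _ * _ * _ = _ by simp)
      mul_smul := fun a b w => Subtype.ext (show _ * _ * _ = _ * (_ * _ * _) * _ by simp [mul_assoc]) }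
  have h1 := hQ.card_modEq_card_fixedPoints X
  have h2 : IsEmpty (MulAction.fixedPoints Q X) := ⟨fun ⟨y, hy⟩ => by
    have h3 := QuotientGroup.eq.1 (Finset.mem_filter.1 y.2).2.symm
    refine hc _ h3 fun a ha => ?_
    have h4 : a * y.1 * a⁻¹ = y.1 := congrArg Subtype.val (hy ⟨a, ha⟩)
    rw [mul_inv_cancel_left, ← mul_inv_eq_iff_eq_mul, h4]⟩
  rw [Nat.card_of_isEmpty (α := MulAction.fixedPoints Q X), Nat.card_eq_finsetCard] at h1
  exact (Nat.modEq_zero_iff_dvd).1 (by convert h1; rfl)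

variable {k : Type*} [Field k] [CharP F p] [CharP k p]

/-- common eigenvectors of the Hecke operators -/
structure Eig {V : Type*} [AddCommGroup V] [Module k V] (ρ : Representation k G V) (v : V) : Prop where
  ne : v ≠ 0
  fx : S.Fx ρ v
  eH : ∀ a ∈ S.H, ∃ c : k, ρ a v = c • v
  eT : ∀ i, ∃ c : k, S.T ρ (S.n i) v = c • v

theorem card_eq_zero (F k : Type*) [Field F] [Fintype F] [Field k] (p : ℕ) [Fact p.Prime] [CharP F p]
    [CharP k p] : (Fintype.card F : k) = 0 := by
  obtain ⟨n, -, h⟩ := FiniteField.card F p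
  rw [h, Nat.cast_pow, CharP.cast_eq_zero, zero_pow n.ne_zero]

variable {S} {V : Type*} [AddCommGroup V] [Module k V] {ρ : Representation k G V}

include p in
theorem Fx.T_sq' {v : V} (hv : S.Fx ρ v) (i : I) [Fintype Fˣ] :
    S.T ρ (S.n i) (S.T ρ (S.n i) v) = ∑ s : Fˣ, ρ (S.h i s) (S.T ρ (S.n i) v) := by
  classical
  rw [hv.T_sq, ← Nat.cast_smul_eq_nsmul k, card_eq_zero F k p, zero_smul, zero_add]
  congr 1
  exact congrArg (fun t => @Finset.univ _ t) (Subsingleton.elim _ _)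

theorem Good.exists_eig [IsAlgClosed k] [FiniteDimensional k V] [Nontrivial V] (hS : S.Good p)
    (ρ : Representation k G V) : ∃ v, S.Eig ρ v := by
  classical
  obtain ⟨v₀, h0, h1⟩ := exists_fixed_vec ρ hS.pU
  let W : Submodule k V :=
    { carrier := {v | S.Fx ρ v}
      add_mem' := fun ha hb u hu => by rw [map_add, ha u hu, hb u hu]
      zero_mem' := fun u _ => map_zero _
      smul_mem' := fun c _ h => Fx.smul h c }
  obtain ⟨v, hv, hv0, he⟩ := Forms.exists_common_eigenvector (fun a : S.H => ρ a)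
    (fun a b x => by rw [← rho_mul, ← rho_mul, hS.H_comm _ a.2 _ b.2]) W
    (fun a x hx => Fx.rho_H hx a.2) (fun h => h0 ((Submodule.eq_bot_iff W).1 h v₀ h1))
  have hv : S.Fx ρ v := hv
  obtain ⟨m, hm, hmax⟩ := Finset.exists_max_image
    (Finset.univ.filter fun m => m ∈ S.N ∧ S.T ρ m v ≠ 0) (fun m => (S.orb m).card)
    ⟨1, by simp [one_mem, hv.T_one, hv0]⟩
  simp only [Finset.mem_filter, Finset.mem_univ, true_and] at hm hmax
  have hH : ∀ a ∈ S.H, ∃ c : k, ρ a (S.T ρ m v) = c • S.T ρ m v := fun a ha => by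
    have ha' := S.N_H m hm.1 a ha
    obtain ⟨c, hc⟩ := he ⟨_, ha'⟩
    refine ⟨c, ?_⟩
    rw [hv.H_T ha, show a * m = m * (m⁻¹ * a * m) by group, hv.T_mul_H ha', hc, map_smul]
  refine ⟨S.T ρ m v, hm.2, hv.T m, hH, fun i => ?_⟩
  rcases S.dich i m hm.1 with hp | hp
  · refine ⟨0, ?_⟩
    rw [zero_smul, ← hv.T_n_mul hm.1 hp]
    by_contra h
    exact (hmax _ ⟨mul_mem (S.n_mem i) hm.1, h⟩).not_gt (S.card_orb_lt hm.1 hp)
  · have h2 := hv.T_n_mul (mul_mem (inv_mem (S.n_mem i)) hm.1) hp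
    rw [mul_inv_cancel_left] at h2
    choose c hc using fun s : Fˣ => hH _ (S.h_mem i s)
    refine ⟨∑ s, c s, ?_⟩
    rw [Finset.sum_smul, ← Finset.sum_congr rfl fun s _ => hc s, h2, (hv.T _).T_sq' (p := p)]

open Classical in
variable (S) in
/-- central characters determined by their values on the centre -/
def Ty0 (ω : G → k) : Prop :=
  ∀ g, ω g = ∑ o ∈ S.orbs, if S.rep o ∈ Subgroup.center G then S.cc g (S.rep o) * ω (S.rep o) else 0

variable (S) in
/-- the central character of the Steinberg module -/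
def Ty1 (ω : G → k) : Prop :=
  ∀ g, ω g = ∑ o ∈ S.orbs, (S.cc g (S.rep o) : k) * (-1) ^ Nat.log (Fintype.card F) o.card

theorem Ty0.eq {ω ω' : G → k} (h : S.Ty0 ω) (h' : S.Ty0 ω')
    (e : ∀ z ∈ Subgroup.center G, ω z = ω' z) : ω = ω' := by
  funext g
  rw [h g, h' g]
  refine Finset.sum_congr rfl fun o _ => ?_
  split_ifs with hz
  · rw [e _ hz]
  · rfl

theorem Ty1.eq {ω ω' : G → k} (h : S.Ty1 ω) (h' : S.Ty1 ω') : ω = ω' := by
  funext g
  rw [h g, h' g]

theorem Good.ty0 (hS : S.Good p) {v : V} (hv : S.Eig ρ v) {ω : G → k}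
    (hω : ∀ g, ∑ y ∈ cls g, ρ y v = ω g • v) {i : I} (hi : S.T ρ (S.n i) v = 0) : S.Ty0 ω := by
  intro g
  obtain ⟨Q, hQ, h1, h2, h3⟩ := hS.cent i
  have key : ∀ m ∈ S.N, ∃ c : k, S.T ρ m v = c • v ∧ (c = 0 ∨ ∀ y ∈ Q, m⁻¹ * y * m ∈ Q) := by
    intro m hm
    refine S.N_induction (P := fun m => ∃ c : k, S.T ρ m v = c • v ∧
      (c = 0 ∨ ∀ y ∈ Q, m⁻¹ * y * m ∈ Q)) ?_ ?_ hm
    · intro a ha
      obtain ⟨c, hc⟩ := hv.eH a ha
      exact ⟨c, by rw [hv.fx.T_H ha, hc], Or.inr (h1 a ha)⟩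
    · rintro j m hm hp ⟨c, hc, hc'⟩
      rw [hv.fx.T_n_mul hm hp, hc, map_smul]
      by_cases hj : j = i
      · exact ⟨0, by rw [hj, hi]; simp, Or.inl rfl⟩
      obtain ⟨d, hd⟩ := hv.eT j
      refine ⟨c * d, by rw [hd, smul_smul], hc'.imp (fun h => by simp [h]) fun h y hy => ?_⟩
      simpa [mul_assoc] using h _ (h2 j hj y hy)
  apply smul_left_injective k hv.ne
  simp only
  rw [← hω, hv.fx.sum_cls, Finset.sum_smul]
  refine Finset.sum_congr rfl fun o ho => ?_
  have hm := (S.rep_spec ho).1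
  split_ifs with hz
  · have := hω (S.rep o)
    rw [cls_of_central hz, Finset.sum_singleton] at this
    rw [hv.fx.T_central hz, this, smul_smul]
  · obtain ⟨c, hc, h | h⟩ := key _ hm
    · simp [hc, h]
    · have := S.dvd_cc (hS.pU.to_le hQ) hQ (fun y hy => hQ (h y hy))
        (fun u hu e => hz (h3 _ hm u hu e)) g
      rw [(CharP.cast_eq_zero_iff k p _).2 this, zero_smul, zero_smul]

theorem Good.ty1 (hS : S.Good p) {v : V} (hv : S.Eig ρ v) {ω : G → k}
    (hω : ∀ g, ∑ y ∈ cls g, ρ y v = ω g • v) (hi : ∀ i, S.T ρ (S.n i) v ≠ 0) : S.Ty1 ω := by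
  classical
  intro g
  have h1 : ∀ i, (∀ s, ρ (S.h i s) v = v) ∧ S.T ρ (S.n i) v = (-1 : k) • v := by
    intro i
    obtain ⟨μ, hμ⟩ := hv.eT i
    have hμ0 : μ ≠ 0 := fun h => hi i (by simp [hμ, h])
    choose c hc using fun s : Fˣ => hv.eH _ (S.h_mem i s)
    have h2 := hv.fx.T_sq' (p := p) i
    simp only [hμ, map_smul, hc, smul_smul, ← Finset.sum_smul, ← Finset.mul_sum] at h2
    have h3 : μ = ∑ s, c s := mul_left_cancel₀ hμ0 (smul_left_injective k hv.ne h2)
    have hm : ∀ s t, c (s * t) = c s * c t := fun s t => by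
      apply smul_left_injective k hv.ne
      simp only
      rw [← hc, hS.h_mul, rho_mul, hc, map_smul, hc, smul_smul, mul_comm]
    have h4 : ∀ t, c t = 1 := fun t => by
      have : ∑ s, c (t * s) = ∑ s, c s := Fintype.sum_equiv (Equiv.mulLeft t) _ _ fun _ => rfl
      simp only [hm, ← Finset.mul_sum, ← h3] at this
      exact mul_right_cancel₀ hμ0 (this.trans (one_mul μ).symm)
    refine ⟨fun s => by rw [hc, h4, one_smul], ?_⟩
    rw [hμ, h3]
    simp only [h4, Finset.sum_const, Finset.card_univ, Fintype.card_units, nsmul_eq_mul, mul_one]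
    rw [Nat.cast_sub Fintype.card_pos, card_eq_zero F k p]
    simp
  have h2 : ∀ a ∈ S.H, ρ a v = v := by
    intro a ha
    have := hS.H_gen ha
    clear ha
    induction this using Subgroup.closure_induction with
    | mem a ha => obtain ⟨i, t, rfl⟩ := ha; exact (h1 i).1 t
    | one => simp
    | mul a b _ _ ha hb => rw [rho_mul, hb, ha]
    | inv a _ ha =>
      conv_lhs => rw [← ha]
      rw [← rho_mul]; simp
  have key : ∀ m ∈ S.N,
      S.T ρ m v = (-1 : k) ^ Nat.log (Fintype.card F) (S.orb m).card • v := by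
    intro m hm
    refine S.N_induction (P := fun m => S.T ρ m v =
      (-1 : k) ^ Nat.log (Fintype.card F) (S.orb m).card • v) ?_ ?_ hm
    · intro a ha
      rw [hv.fx.T_H ha, h2 a ha, S.orb_H ha]; simp
    · intro j m hm hp h
      rw [hv.fx.T_n_mul hm hp, h, map_smul, (h1 j).2, S.card_orb_n hm hp, smul_smul, mul_comm
        (Fintype.card F), Nat.log_mul_base Fintype.one_lt_card
        (Finset.card_pos.2 ⟨_, S.self_mem_orb m⟩).ne', pow_succ]
  apply smul_left_injective k hv.ne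
  simp only
  rw [← hω, hv.fx.sum_cls, Finset.sum_smul]
  refine Finset.sum_congr rfl fun o ho => ?_
  rw [key _ (S.rep_spec ho).1, (S.rep_spec ho).2, smul_smul]

theorem Good.ty0_or_ty1 [IsAlgClosed k] [FiniteDimensional k V] [Nontrivial V] (hS : S.Good p)
    (ρ : Representation k G V) {ω : G → k} (hω : ∀ g v, ∑ y ∈ cls g, ρ y v = ω g • v) :
    S.Ty0 ω ∨ S.Ty1 ω := by
  obtain ⟨v, hv⟩ := hS.exists_eig ρ
  by_cases h : ∀ i, S.T ρ (S.n i) v ≠ 0
  · exact Or.inr (hS.ty1 hv (fun g => hω g v) h)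
  · obtain ⟨i, hi⟩ := not_forall.1 h
    exact Or.inl (hS.ty0 hv (fun g => hω g v) (not_not.1 hi))

theorem Good.ty0_triv [Nonempty I] (hS : S.Good p) : S.Ty0 fun g => ((cls g).card : k) := by
  have hx : S.Fx (Representation.trivial k G k) 1 := fun _ _ => rfl
  have h : ∀ i, S.T (Representation.trivial k G k) (S.n i) 1 = 0 := fun i => by
    rw [hx.T_n]
    simp [card_eq_zero F k p]
  refine hS.ty0 (ρ := Representation.trivial k G k) (v := 1)
    ⟨one_ne_zero, hx, fun a _ => ⟨1, by simp⟩, fun i => ⟨0, by simp [h]⟩⟩ (fun g => by simp)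
    (h (Classical.arbitrary I))

attribute [local instance] Ideal.Quotient.field

variable {M : Ideal AlgInt}

theorem Good.dich (hS : S.Good p) (hM : IsPModular p M) (χ : IrrCharacter G) :
    haveI := hM.2.1
    S.Ty0 (fun g => Ideal.Quotient.mk M (omg χ g)) ∨ S.Ty1 fun g => Ideal.Quotient.mk M (omg χ g) := by
  have := hM.2.1
  have := charP_res hM
  have := isAlgClosed_res (M := M)
  have := modV_finite (M := M) (χ : G → ℂ)
  have := modV_nontrivial hM.2.1.ne_top (isIrr_one_ne_zero χ.2)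
  exact hS.ty0_or_ty1 (modRep M (χ : G → ℂ)) (sum_modRep χ)

theorem not_defZero_one (h : p ∣ Nat.card G) : ¬ DefZero p fun _ : G => (1 : ℂ) := by
  rintro ⟨d, m, hm, e⟩
  rw [one_mul] at e
  have : m = d * Nat.card G := by exact_mod_cast e
  exact hm (this ▸ h.mul_left d)

theorem Good.dvd_card [Nonempty I] (hS : S.Good p) : p ∣ Nat.card G := by
  obtain ⟨i⟩ := ‹Nonempty I›
  refine dvd_trans ?_ (Subgroup.card_subgroup_dvd_card S.U)
  rcases hS.pU.card_eq_or_dvd with h | h
  · exfalso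
    have h1 : ∀ u ∈ S.U, u = 1 := fun u hu => by
      have := (Subgroup.eq_bot_iff_card S.U).2 h
      rwa [this, Subgroup.mem_bot] at hu
    obtain ⟨u, hu, u', hu', e⟩ := S.nxn i 1
    rw [h1 _ (S.x_mem i _)] at e
    exact S.ne i _ (S.n_mem i) u hu _ (S.h_mem i 1) u' hu' (by simpa using e)
  · exact h

/-- a character of defect zero which is trivial on the centre has the Steinberg central character -/
theorem Good.ty1_of_defZero [Nonempty I] (hS : S.Good p) (hM : IsPModular p M) (χ : IrrCharacter G)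
    (h0 : DefZero p (χ : G → ℂ)) (hz : ∀ z ∈ Subgroup.center G, (χ : G → ℂ) z = (χ : G → ℂ) 1) :
    haveI := hM.2.1
    S.Ty1 fun g => Ideal.Quotient.mk M (omg χ g) := by
  have := hM.2.1
  have := charP_res hM
  refine (hS.dich hM χ).resolve_left fun h => not_defZero_one hS.dvd_card (p := p) ?_
  have h1 : ∀ g, omg (⟨_, isIrr_one⟩ : IrrCharacter G) g = (cls g).card := fun g =>
    Subtype.ext (by simp [omg_coe, centralChar, card_cls])
  have h2 := h.eq (hS.ty0_triv (k := AlgInt ⧸ M)) fun z hz' => by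
    have : omg χ z = 1 := Subtype.ext (by
      rw [omg_coe, centralChar_of_central hz', hz z hz', div_self (isIrr_one_ne_zero χ.2)]; rfl)
    simp [this, cls_of_central hz']
  have h3 : SameBlock M (χ : G → ℂ) (⟨_, isIrr_one⟩ : IrrCharacter G) :=
    (sameBlock_iff hM.2.1.isPrime _ _).2 fun g => by rw [h1, map_natCast]; exact congrFun h2 g
  exact eq_of_sameBlock hM χ.2 isIrr_one h0 h3 ▸ h0

theorem Good.defZero_unique [Nonempty I] (hS : S.Good p) (hZ : Subgroup.center G = ⊥) {χ ψ : G → ℂ}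
    (hχ : IsIrrCharacter G χ) (hψ : IsIrrCharacter G ψ) (h0 : DefZero p χ) (h1 : DefZero p ψ) :
    χ = ψ := by
  obtain ⟨M, hM⟩ := exists_isPModular (Fact.out : p.Prime)
  have := hM.2.1
  have h : ∀ φ : G → ℂ, ∀ z ∈ Subgroup.center G, φ z = φ 1 := fun φ z hz => by
    rw [hZ, Subgroup.mem_bot] at hz; rw [hz]
  have h2 := (hS.ty1_of_defZero hM ⟨χ, hχ⟩ h0 (h _)).eq (hS.ty1_of_defZero hM ⟨ψ, hψ⟩ h1 (h _))
  exact eq_of_sameBlock hM hχ hψ h0
    ((sameBlock_iff hM.2.1.isPrime ⟨χ, hχ⟩ ⟨ψ, hψ⟩).2 fun g => congrFun h2 g)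

omit [Fintype G] in
theorem exists_central_hom [Finite G] {χ : G → ℂ} (hχ : IsIrrCharacter G χ) :
    ∃ θ : Subgroup.center G →* ℂˣ, ∀ z, (θ z : ℂ) = χ z / χ 1 := by
  have h0 := isIrr_one_ne_zero hχ
  refine ⟨MonoidHom.toHomUnits
    { toFun := fun z => χ z / χ 1
      map_one' := div_self h0
      map_mul' := fun a b => ?_ }, fun _ => rfl⟩
  have := irr_central hχ a.2 b
  field_simp
  rw [← this, mul_comm]; rfl

theorem exists_over_central (θ : Subgroup.center G →* ℂˣ) :
    ∃ χ, IsIrrCharacter G χ ∧ ∀ z, (θ z : ℂ) = χ z / χ 1 := by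
  have := Fintype.ofFinite (Subgroup.center G)
  obtain ⟨χ, hχ, h⟩ := exists_irr_over (Subgroup.center G).subtype Subtype.val_injective
    (isIrr_unitsHom θ)
  obtain ⟨θ', h'⟩ := exists_central_hom hχ
  have h0 := isIrr_one_ne_zero hχ
  have e : (fun z : Subgroup.center G => χ ((Subgroup.center G).subtype z)) =
      χ 1 • fun z => (θ' z : ℂ) := by
    funext z
    simp only [Pi.smul_apply, h', smul_eq_mul, Subgroup.coe_subtype]
    field_simp
  rw [e, CharLib.inner_smul_right] at h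
  have h1 := eq_of_inner_ne_zero (isIrr_unitsHom θ) (isIrr_unitsHom θ') (right_ne_zero_of_mul h)
  exact ⟨χ, hχ, fun z => (congrFun h1 z).trans (h' z)⟩

/-- the number of blocks -/
theorem Good.card_blocks [Nonempty I] (hS : S.Good p) (hM : IsPModular p M)
    (hZ : ¬ p ∣ Nat.card (Subgroup.center G)) {St : G → ℂ} (hSt : IsIrrCharacter G St)
    (h0 : DefZero p St) (hz : ∀ z ∈ Subgroup.center G, St z = St 1) :
    Nat.card {B : Set (IrrCharacter G) // IsPBlock M B} = Nat.card (Subgroup.center G) + 1 := by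
  have := hM.2.1
  have hP := hM.2.1.isPrime
  have h1 : ∀ θ : Subgroup.center G →* ℂˣ, ∃ χ : IrrCharacter G, (χ : G → ℂ) ≠ St ∧
      ∀ z, (θ z : ℂ) = (χ : G → ℂ) z / (χ : G → ℂ) 1 := fun θ => by
    by_cases h : θ = 1
    · exact ⟨⟨_, isIrr_one⟩, fun e => not_defZero_one hS.dvd_card (p := p) (by
        rw [← e] at h0; exact h0), fun z => by simp [h]⟩
    · obtain ⟨χ, hχ, e⟩ := exists_over_central θ
      refine ⟨⟨χ, hχ⟩, fun e' => h ?_, e⟩
      ext z
      have e' : χ = St := e'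
      rw [e, e', hz _ z.2, div_self (isIrr_one_ne_zero hSt)]; rfl
  choose c hc hc' using h1
  have hb : ∀ χ ψ : IrrCharacter G, blockOf M (χ : G → ℂ) = blockOf M (ψ : G → ℂ) ↔
      SameBlock M (χ : G → ℂ) ψ := fun χ ψ => by
    constructor
    · intro e
      have : ψ ∈ blockOf M (ψ : G → ℂ) := sameBlock_refl hP _
      rwa [← e] at this
    · intro e
      ext φ
      exact ⟨sameBlock_trans hP (sameBlock_symm e), sameBlock_trans hP e⟩
  have h1 := hS.ty1_of_defZero hM ⟨St, hSt⟩ h0 hz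
  have h2 : ∀ χ : IrrCharacter G, (χ : G → ℂ) ≠ St →
      S.Ty0 fun g => Ideal.Quotient.mk M (omg χ g) := fun χ h =>
    (hS.dich hM χ).resolve_right fun h' => h (eq_of_sameBlock hM hSt χ.2 h0
      ((sameBlock_iff hP ⟨St, hSt⟩ χ).2 fun g => congrFun (h1.eq h') g)).symm
  let c' : Option (Subgroup.center G →* ℂˣ) → IrrCharacter G := fun o => o.elim ⟨St, hSt⟩ c
  let f : Option (Subgroup.center G →* ℂˣ) → {B : Set (IrrCharacter G) // IsPBlock M B} :=
    fun o => ⟨blockOf M (c' o : G → ℂ), c' o, rfl⟩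
  have hf : Function.Bijective f := by
    constructor
    · intro a b e
      have e := (hb _ _).1 (congrArg Subtype.val e)
      match a, b with
      | none, none => rfl
      | none, some θ => exact absurd (eq_of_sameBlock hM hSt (c θ).2 h0 e).symm (hc θ)
      | some θ, none =>
        exact absurd (eq_of_sameBlock hM hSt (c θ).2 h0 (sameBlock_symm e)).symm (hc θ)
      | some θ, some θ' =>
        congr 1
        ext z
        have h3 := e z
        rw [centralChar_of_central z.2, centralChar_of_central z.2] at h3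
        change MemLocalIdeal M ((c θ : G → ℂ) z / (c θ : G → ℂ) 1 -
          (c θ' : G → ℂ) z / (c θ' : G → ℂ) 1) at h3
        rw [← hc', ← hc'] at h3
        have h4 : ∀ φ : Subgroup.center G →* ℂˣ, ∀ z, (φ z : ℂ) ^ Nat.card (Subgroup.center G) = 1 :=
          fun φ z => by rw [← Units.val_pow_eq_pow_val, ← map_pow, pow_card_eq_one', map_one]; rfl
        have h5 : IsIntegral ℤ (θ' z⁻¹ : ℂ) :=
          IsIntegral.of_pow Nat.card_pos (h4 θ' z⁻¹ ▸ isIntegral_one)
        have h6 : (θ' z : ℂ) * θ' z⁻¹ = 1 := by simp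
        have h7 := memLI_mul_right hP h3 (memLR_of_isIntegral hP h5)
        rw [sub_mul, h6] at h7
        have h8 := eq_one_of_memLI hM hZ (by rw [mul_pow, h4, h4, mul_one]) h7
        exact mul_right_cancel₀ (Units.ne_zero _) (h8.trans h6.symm)
    · rintro ⟨B, χ, rfl⟩
      by_cases h : (χ : G → ℂ) = St
      · exact ⟨none, Subtype.ext (show blockOf M St = blockOf M (χ : G → ℂ) by rw [h])⟩
      obtain ⟨θ, hθ⟩ := exists_central_hom χ.2
      refine ⟨some θ, Subtype.ext ((hb _ _).2 ((sameBlock_iff hP _ _).2 fun g => ?_))⟩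
      refine congrFun ((h2 _ (hc θ)).eq (h2 _ h) fun z hz => ?_) g
      congr 1
      apply Subtype.ext
      rw [omg_coe, omg_coe, centralChar_of_central hz, centralChar_of_central hz]
      exact (hc' θ ⟨z, hz⟩).symm.trans (hθ ⟨z, hz⟩)
  have : Finite (Subgroup.center G →* ℂˣ) := by
    have := Finite.of_injective c fun a b e => by
      ext z; rw [hc', hc', e]
    exact this
  rw [← Nat.card_congr (Equiv.ofBijective f hf), Finite.card_option]
  congr 1
  rw [← card_degree_one_eq_card_hom, card_degree_one, (commutator_eq_bot_iff _).2 inferInstance,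
    Subgroup.index_bot]

end SBN
end Cfsg.Agent.StB
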