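import Cfsg.Agent.StB.Blocks
import Cfsg.Agent.Chev.WClosed
import Cfsg.Agent.Chev.Cent
/-!
# The split BN-pair of a Chevalley group
-/
set_option autoImplicit false

namespace Cfsg.Agent.StB
open Cfsg Cfsg.Agent.Chev Cfsg.Lie Equiv

attribute [-simp] zsmul_eq_mul nsmul_eq_mul

variable {D : ChevalleyDatum} {C : Cert D} {F : Type*} [Field F] {G : Type*} [Group G]

theorem over_pos_iff {S : Sys C F G} {m : G} {w : Perm (Rt D)} (hm : S.Over m w) (r : Rt D) :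
    (∀ t, m⁻¹ * S.x r t * m ∈ S.Up) ↔ C.Pos (w⁻¹ r) := by
  obtain ⟨c, hc⟩ := hm.inv.acts r
  simp only [inv_inv] at hc
  simp only [hc]
  exact ⟨fun h => S.pos_of_x_mem_B (by simp) (S.Up_le_B (h 1)), fun h t => S.x_mem_Up h _⟩

theorem n_one_sq (S : Sys C F G) (hφ : Function.Injective S.φ) (r : Rt D) :
    S.n r 1 * S.n r 1 = S.h r (-1) := by
  have h1 := S.h_mul hφ r (-1) (-1)
  rw [neg_mul_neg, mul_one, Sys.h_one] at h1
  rw [eq_inv_of_mul_eq_one_left h1.symm, Sys.h, S.n_neg, mul_inv_rev, inv_inv]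

/-- the split BN-pair of a system of root elements -/
def sbn (S : Sys C F G) (hφ : Function.Injective S.φ) : SBN G F (Nd D) where
  U := S.Up
  H := S.H
  N := S.N
  x i := S.x (C.sp i)
  n i := S.n (C.sp i) 1
  h i := S.h (C.sp i)
  H_le := S.H_le_N
  n_mem _ := S.n_mem _ _
  H_U _ ha _ hu := Sys.H_conj_U ha hu
  N_H m hm a ha := by simpa using S.N_conj_H (inv_mem hm) ha
  x_add i := S.x_add _
  x_mem i t := S.x_mem_Up (C.pos_sp i) t
  split i u hu := by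
    obtain ⟨v, hv, t, e⟩ := Sys.split_sp i (inv_mem hu)
    refine ⟨-t, ?_⟩
    have h1 := (S.over_ns i 1).inv
    rw [C.ss_inv] at h1
    have h2 := inv_mem (h1.conj_sp hv)
    rw [S.x_neg, inv_inv, ← inv_inv u, e]
    convert h2 using 1
    group
  n_sq i := S.n_mul_n_mem_H _ _ _
  nxn i t := by
    have h1 := S.n_conj (C.sp i) 1 (C.sp i) (-(t⁻¹ : Fˣ))
    rw [C.refl_self, one_zpow, mul_one, Cert.etaU_val, C.eta_self, Int.cast_neg, Int.cast_one,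
      neg_mul_neg, one_mul, S.x_rev_eq, inv_inv, S.n_eq_h_mul _ (-t)] at h1
    have h2 := n_one_sq S hφ (C.sp i)
    have h3 : S.h (C.sp i) t = S.h (C.sp i) (-t) * S.h (C.sp i) (-1) := by
      rw [← S.h_mul hφ, neg_mul_neg, mul_one]
    refine ⟨_, S.x_mem_Up (C.pos_sp i) t, _,
      Sys.H_inv_conj_U (S.h_mem (C.sp i) (-1)) (S.x_mem_Up (C.pos_sp i) t), ?_⟩
    rw [mul_inv_eq_iff_eq_mul.1 h1, h3, ← h2]
    group
  h_mem _ _ := S.h_mem _ _
  bruhat g := by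
    obtain ⟨w, -, u, hu, m, hm, u', hu', e⟩ := S.exists_cell g
    exact ⟨u, hu, m, hm.mem_N, u', hu', e⟩
  dich i m hm := by
    obtain ⟨w, hw⟩ := Sys.exists_over_of_mem_N hm
    rw [over_pos_iff hw, over_pos_iff ((S.over_ns i 1).inv.mul hw), mul_inv_rev, inv_inv,
      Perm.mul_apply, C.ss_sp, Cert.Aut.pos_rev_iff hw.inv.mem_Aut]
    exact em _
  base m hm h := by
    obtain ⟨w, hw⟩ := Sys.exists_over_of_mem_N hm
    have := Cert.eq_one_of_pos hw.inv.mem_W fun i => (over_pos_iff hw _).1 (h i)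
    rw [inv_eq_one] at this
    exact (this ▸ hw).mem_H
  ne i m hm u hu a ha u' hu' e := by
    obtain ⟨w, hw⟩ := Sys.exists_over_of_mem_N hm
    have h1 := ((S.over_ns i 1).mul hw).cell
    rw [e] at h1
    have h2 := h1.unique (Sys.cell_of (mul_mem (S.Up_le_B hu) (S.H_le_B ha)) hw (S.Up_le_B hu'))
    exact Cert.ss_ne_one i (mul_eq_right.1 h2)

theorem exists_radical_add {J : Set (Nd D)} {i₀ : Nd D} (h0 : i₀ ∉ J) {j : Nd D} (hj : j ∈ J) :
    ∃ r u, (C.Pos r ∧ ¬ C.InJ J r) ∧ (C.Pos u ∧ ¬ C.InJ J u) ∧ C.rc u = C.rc (C.sp j) + C.rc r := by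
  have hs : ∀ j ∈ J, ∀ r, C.Pos r ∧ ¬ C.InJ J r →
      C.Pos (C.refl (C.sp j) r) ∧ ¬ C.InJ J (C.refl (C.sp j) r) := fun j hj r hr =>
    ⟨Cert.pos_map_of_not_inJ (C.ss_mem_WJ hj) hr.1 hr.2,
      fun h => hr.2 ((Cert.inJ_map (C.ss_mem_WJ hj) r).1 h)⟩
  have h1 := C.connected (K := {j | j ∈ J ∧ ∀ r, C.Pos r ∧ ¬ C.InJ J r → C.A (C.sp j) r = 0}) (by
    rintro i ⟨-, hi⟩ j hj
    by_cases hJ : j ∈ J
    · simp only [Set.mem_ofPred_eq, hJ, true_and, not_forall] at hj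
      obtain ⟨r, hr, hr0⟩ := hj
      have h2 := hi _ (hs j hJ r hr)
      rw [← C.pr_rc, C.rc_refl, C.pr_sub, C.pr_smul, C.pr_rc, C.pr_rc, hi r hr] at h2
      exact C.A_eq_zero_comm.1 ((mul_eq_zero.1 (by omega)).resolve_left hr0)
    · exact C.A_eq_zero_comm.1 (hi _ ⟨C.pos_sp j, fun h => hJ (C.inJ_sp.1 h)⟩))
  rcases h1 with h1 | h1
  · have h2 : ¬ (j ∈ J ∧ ∀ r, C.Pos r ∧ ¬ C.InJ J r → C.A (C.sp j) r = 0) := fun h =>
      Set.notMem_empty j (h1 ▸ h)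
    simp only [hj, true_and, not_forall] at h2
    obtain ⟨r, hr, hr0⟩ := h2
    have h3 : ∃ r, (C.Pos r ∧ ¬ C.InJ J r) ∧ C.A (C.sp j) r < 0 := by
      rcases lt_or_gt_of_ne hr0 with h | h
      · exact ⟨r, hr, h⟩
      · exact ⟨_, hs j hj r hr, by rw [C.A_refl_self]; omega⟩
    obtain ⟨r, hr, h4⟩ := h3
    obtain ⟨u, hu⟩ := C.exists_add_of_A_neg (r := C.sp j) (s := r)
      (fun e => hr.2 (e ▸ C.inJ_rev.2 (C.inJ_sp.2 hj))) h4
    exact ⟨r, u, hr, Cert.stab_radical J r hr _ (Or.inl (C.pos_sp j)) u (by rw [hu, add_comm]), hu⟩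
  · exact absurd (show i₀ ∈ {j | j ∈ J ∧ _} from h1 ▸ Set.mem_univ i₀).1 h0

theorem central_of_commute_UJ (S : Sys C F G) {J : Set (Nd D)} {i₀ : Nd D} (h0 : i₀ ∉ J) {m u : G}
    (hm : m ∈ S.N) (hu : u ∈ S.Up) (h : ∀ y ∈ S.UJ J, y * (m * u) = m * u * y) :
    m ∈ Subgroup.center G := by
  obtain ⟨w, hw⟩ := Sys.exists_over_of_mem_N hm
  have h1 : ∀ r, C.Pos r ∧ ¬ C.InJ J r → w⁻¹ r = r ∧ m⁻¹ * S.x r 1 * m = S.x r 1 := by
    intro r hr
    obtain ⟨c, hc⟩ := hw.inv.acts r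
    have h2 := hc 1
    rw [inv_inv, mul_one] at h2
    have hp := Cert.ordL_pos hr.1
    have h3 := S.comm_level (Cert.ordL D) one_pos hp.le 1 (z := u)
      (S.U_mono (fun _ hs => Cert.ordL_pos hs) hu)
    have h4 : m⁻¹ * S.x r 1 * m = (S.x r 1 * u * (S.x r 1)⁻¹ * u⁻¹)⁻¹ * S.x r 1 := by
      rw [show m⁻¹ * S.x r 1 * m = m⁻¹ * (S.x r 1 * (m * u)) * u⁻¹ by group,
        h _ (S.x_mem_UJ hr.1 hr.2 1)]
      group
    have h5 := congrArg (S.cd r) (h2.symm.trans h4)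
    rw [S.cd_mul (f := Cert.ordL D) (k := Cert.ordL D (C.rc r)) hp.le
      (T := {s | Cert.ordL D (C.rc r) ≤ Cert.ordL D (C.rc s)}) (fun _ h => h) (by omega)
      (S.U_mono (fun s hs => by simp only [Set.mem_ofPred_eq] at hs ⊢; omega) (inv_mem h3))
      (S.x_mem_U (by simp) 1), S.cd_eq_zero (f := Cert.ordL D) (k := 1 + Cert.ordL D (C.rc r))
      (by omega) (fun _ h => h) (by omega) (inv_mem h3), S.cd_x_self, zero_add, S.cd_x] at h5
    split_ifs at h5 with h6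
    · exact ⟨h6, by rw [h2, h6, h5]⟩
    · exact absurd h5 zero_ne_one
  have h2 : w⁻¹ = 1 := by
    refine Cert.eq_one_of_pos hw.inv.mem_W fun j => ?_
    by_cases hj : j ∈ J
    · obtain ⟨r, u, hr, hu, e⟩ := exists_radical_add (C := C) h0 hj
      have := Cert.Aut.map_add hw.inv.mem_Aut e
      rw [(h1 r hr).1, (h1 u hu).1, e] at this
      rw [← C.rc_inj (add_right_cancel this)]
      exact C.pos_sp j
    · rw [(h1 _ ⟨C.pos_sp j, fun h => hj (C.inJ_sp.1 h)⟩).1]; exact C.pos_sp j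
  have h3 : m⁻¹ ∈ S.H := (h2 ▸ hw.inv).mem_H
  have h4 : ∀ r, C.Pos r ∧ ¬ C.InJ J r → S.chi m⁻¹ r = 1 := fun r hr => by
    have := Sys.H_conj_x h3 r 1
    rw [inv_inv, (h1 r hr).2, mul_one] at this
    exact Units.ext (S.x_inj r this).symm
  refine inv_mem_iff.1 (Sys.central_of_chi h3 fun j => ?_)
  by_cases hj : j ∈ J
  · obtain ⟨r, u, hr, hu, e⟩ := exists_radical_add (C := C) h0 hj
    have := (Sys.isChar_chi h3).2 _ _ _ e
    rwa [h4 r hr, h4 u hu, mul_one, eq_comm] at this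
  · exact h4 _ ⟨C.pos_sp j, fun h => hj (C.inJ_sp.1 h)⟩

theorem sbn_good [Finite F] (S : Sys C F G) (hφ : Function.Injective S.φ) (p : ℕ) [Fact p.Prime]
    [CharP F p] : (sbn S hφ).Good p where
  pU := S.isPGroup_Up p
  H_comm _ ha _ hb := S.H_comm hφ ha hb
  h_mul i := S.h_mul hφ (C.sp i)
  H_gen a ha := by
    obtain ⟨t, rfl⟩ := S.exists_hh hφ ha
    exact S.hh_mem_of fun i => Subgroup.subset_closure ⟨i, t i, rfl⟩
  cent i := by
    refine ⟨S.UJ {j | j ≠ i}, S.UJ_le_Up _, fun a ha y hy => Sys.H_inv_conj_U ha hy, fun j hj y hy => ?_,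
      fun m hm u hu h => central_of_commute_UJ S (i₀ := i) (by simp) hm hu h⟩
    simpa [sbn] using S.P_conj_UJ (inv_mem ((S.over_ns j 1).mem_P (C.ss_mem_WJ (J := {j | j ≠ i}) hj))) hy

end Cfsg.Agent.StB
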