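import Cfsg.Agent.CharLib.Central
import Cfsg.Agent.Forms.Weights
/-!
# Hecke operators of a split BN-pair on the vectors fixed by `U`
-/
set_option autoImplicit false
set_option linter.unusedSectionVars false

namespace Cfsg.Agent.StB
open Cfsg Cfsg.Agent.CharLib

/-- the data of a split BN-pair -/
structure SBN (G : Type*) [Group G] (F : Type*) [Field F] (I : Type*) where
  U : Subgroup G
  H : Subgroup G
  N : Subgroup G
  x : I → F → G
  n : I → G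
  h : I → Fˣ → G
  H_le : H ≤ N
  n_mem : ∀ i, n i ∈ N
  H_U : ∀ a ∈ H, ∀ u ∈ U, a * u * a⁻¹ ∈ U
  N_H : ∀ m ∈ N, ∀ a ∈ H, m⁻¹ * a * m ∈ H
  x_add : ∀ i s t, x i (s + t) = x i s * x i t
  x_mem : ∀ i t, x i t ∈ U
  split : ∀ i, ∀ u ∈ U, ∃ t, (n i)⁻¹ * ((x i t)⁻¹ * u) * n i ∈ U
  n_sq : ∀ i, n i * n i ∈ H
  nxn : ∀ i (t : Fˣ), ∃ u ∈ U, ∃ u' ∈ U, n i * x i (-(t⁻¹ : Fˣ)) * n i = u * h i t * n i * u'
  h_mem : ∀ i t, h i t ∈ H
  bruhat : ∀ g, ∃ u ∈ U, ∃ m ∈ N, ∃ u' ∈ U, g = u * m * u'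
  dich : ∀ i, ∀ m ∈ N, (∀ t, m⁻¹ * x i t * m ∈ U) ∨
    ∀ t, ((n i)⁻¹ * m)⁻¹ * x i t * ((n i)⁻¹ * m) ∈ U
  base : ∀ m ∈ N, (∀ i t, m⁻¹ * x i t * m ∈ U) → m ∈ H
  ne : ∀ i, ∀ m ∈ N, ∀ u ∈ U, ∀ a ∈ H, ∀ u' ∈ U, n i * m ≠ u * a * m * u'

namespace SBN
variable {G : Type*} [Group G] {F : Type*} [Field F] {I : Type*} (S : SBN G F I)

/-- `i` is a left ascent of `m` -/
def Pos (i : I) (m : G) : Prop := ∀ t, m⁻¹ * S.x i t * m ∈ S.U

theorem pos_one (i : I) : S.Pos i 1 := fun t => by simpa using S.x_mem i t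

theorem x_zero (i : I) : S.x i 0 = 1 := by
  have := S.x_add i 0 0
  rw [add_zero] at this
  exact mul_eq_left.1 this.symm

theorem x_neg (i : I) (t : F) : S.x i (-t) = (S.x i t)⁻¹ :=
  eq_inv_of_mul_eq_one_left (by rw [← S.x_add, neg_add_cancel, S.x_zero])

theorem H_U' {a u : G} (ha : a ∈ S.H) (hu : u ∈ S.U) : a⁻¹ * u * a ∈ S.U := by
  simpa using S.H_U _ (inv_mem ha) u hu

theorem split' (i : I) {u : G} (hu : u ∈ S.U) : ∃ t, S.n i * (u * S.x i t) * (S.n i)⁻¹ ∈ S.U := by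
  obtain ⟨t, ht⟩ := S.split i u⁻¹ (inv_mem hu)
  refine ⟨t, ?_⟩
  have := S.H_U _ (S.n_sq i) _ (inv_mem ht)
  convert this using 1
  group

variable [Fintype G]

open Classical in
/-- the `U`-orbit of a coset -/
noncomputable def orb (g : G) : Finset (G ⧸ S.U) :=
  Finset.univ.filter fun q => ∃ u ∈ S.U, q = ((u * g : G) : G ⧸ S.U)

theorem mem_orb {g : G} {q : G ⧸ S.U} : q ∈ S.orb g ↔ ∃ u ∈ S.U, q = ((u * g : G) : G ⧸ S.U) := by
  simp [orb]

theorem mk_mem_orb {g y : G} : (y : G ⧸ S.U) ∈ S.orb g ↔ ∃ u ∈ S.U, ∃ u' ∈ S.U, y = u * g * u' := by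
  rw [mem_orb]
  constructor
  · rintro ⟨u, hu, e⟩
    exact ⟨u, hu, _, QuotientGroup.eq.1 e.symm, by group⟩
  · rintro ⟨u, hu, u', hu', rfl⟩
    exact ⟨u, hu, QuotientGroup.mk_mul_of_mem _ hu'⟩

theorem self_mem_orb (g : G) : (g : G ⧸ S.U) ∈ S.orb g := S.mem_orb.2 ⟨1, one_mem _, by simp⟩

theorem orb_eq_of_mem {g y : G} (h : (y : G ⧸ S.U) ∈ S.orb g) : S.orb y = S.orb g := by
  obtain ⟨u, hu, u', hu', rfl⟩ := S.mk_mem_orb.1 h
  ext q
  induction q using QuotientGroup.induction_on with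
  | H z =>
    rw [mk_mem_orb, mk_mem_orb]
    constructor
    · rintro ⟨a, ha, b, hb, rfl⟩
      exact ⟨_, mul_mem ha hu, _, mul_mem hu' hb, by group⟩
    · rintro ⟨a, ha, b, hb, rfl⟩
      exact ⟨_, mul_mem ha (inv_mem hu), _, mul_mem (inv_mem hu') hb, by group⟩

theorem orb_of_norm {a : G} (ha : ∀ u ∈ S.U, a⁻¹ * u * a ∈ S.U) :
    S.orb a = {(a : G ⧸ S.U)} := by
  ext q
  rw [Finset.mem_singleton, mem_orb]
  constructor
  · rintro ⟨u, hu, rfl⟩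
    exact (QuotientGroup.eq.2 (by simpa [mul_assoc] using ha u hu)).symm
  · rintro rfl; exact ⟨1, one_mem _, by simp⟩

theorem orb_H {a : G} (ha : a ∈ S.H) : S.orb a = {(a : G ⧸ S.U)} :=
  S.orb_of_norm fun _ hu => S.H_U' ha hu

theorem orb_central {a : G} (ha : a ∈ Subgroup.center G) : S.orb a = {(a : G ⧸ S.U)} :=
  S.orb_of_norm fun u hu => by
    rwa [mul_assoc, Subgroup.mem_center_iff.1 ha u, inv_mul_cancel_left]

theorem sum_orb_smul {A : Type*} [AddCommMonoid A] (f : G ⧸ S.U → A) {a : G}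
    (ha : ∀ u ∈ S.U, a * u * a⁻¹ ∈ S.U) (ha' : ∀ u ∈ S.U, a⁻¹ * u * a ∈ S.U) (g : G) :
    ∑ q ∈ S.orb g, f (a • q) = ∑ q ∈ S.orb (a * g), f q := by
  refine Finset.sum_bij' (fun q _ => a • q) (fun q _ => a⁻¹ • q) ?_ ?_ ?_ ?_ ?_
  · intro q hq
    obtain ⟨u, hu, rfl⟩ := S.mem_orb.1 hq
    exact S.mem_orb.2 ⟨_, ha u hu, by
      rw [MulAction.Quotient.smul_coe, smul_eq_mul]; congr 1; group⟩
  · intro q hq
    obtain ⟨u, hu, rfl⟩ := S.mem_orb.1 hq
    exact S.mem_orb.2 ⟨_, ha' u hu, by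
      rw [MulAction.Quotient.smul_coe, smul_eq_mul]; congr 1; group⟩
  all_goals simp

variable [Fintype F]

theorem sum_orb_n {A : Type*} [AddCommMonoid A] (f : G ⧸ S.U → A) {i : I} {m : G} (hm : m ∈ S.N)
    (hp : S.Pos i m) :
    ∑ q ∈ S.orb (S.n i * m), f q = ∑ t, ∑ q ∈ S.orb m, f ((S.x i t * S.n i) • q) := by
  classical
  rw [← Finset.sum_product' (f := fun t q => f ((S.x i t * S.n i) • q))]
  symm
  refine Finset.sum_bij (fun tq _ => (S.x i tq.1 * S.n i) • tq.2) ?_ ?_ ?_ fun _ _ => rfl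
  · rintro ⟨t, q⟩ hq
    obtain ⟨u, hu, rfl⟩ := S.mem_orb.1 (Finset.mem_product.1 hq).2
    obtain ⟨s, hs⟩ := S.split' i hu
    rw [MulAction.Quotient.smul_coe, smul_eq_mul]
    refine S.mk_mem_orb.2 ⟨_, mul_mem (S.x_mem i t) hs, _, inv_mem (hp s), by group⟩
  · rintro ⟨t, q⟩ hq ⟨t', q'⟩ hq' e
    obtain ⟨u, hu, rfl⟩ := S.mem_orb.1 (Finset.mem_product.1 hq).2
    obtain ⟨u', hu', rfl⟩ := S.mem_orb.1 (Finset.mem_product.1 hq').2
    by_cases htt : t = t'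
    · subst htt
      simp only [smul_left_cancel_iff] at e
      rw [e]
    exfalso
    simp only [MulAction.Quotient.smul_coe, smul_eq_mul] at e
    have e1 := QuotientGroup.eq.1 e
    have hne : t - t' ≠ 0 := sub_ne_zero.2 htt
    obtain ⟨v, hv, v', hv', e2⟩ := S.nxn i (Units.mk0 _ hne)⁻¹
    rw [inv_inv, Units.val_mk0, neg_sub, sub_eq_neg_add, S.x_add, S.x_neg] at e2
    obtain ⟨s, hs⟩ := S.split' i (mul_mem hv' hu')
    set a := S.h i (Units.mk0 _ hne)⁻¹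
    have ha : a ∈ S.H := S.h_mem _ _
    have hb : (S.n i * S.n i)⁻¹ * a ∈ S.H := mul_mem (inv_mem (S.n_sq i)) ha
    set b := (S.n i * S.n i)⁻¹ * a
    have h1 := S.H_U' (S.n_sq i) hv
    have h2 := S.H_U _ hb _ hs
    refine S.ne i m hm _ (S.H_U' hb (mul_mem (inv_mem (mul_mem h1 h2)) hu)) _ (inv_mem hb) _
      (mul_mem e1 (hp s)) ?_
    have e3 : (S.x i t)⁻¹ * S.x i t' = (S.n i)⁻¹ * (v * a * S.n i * v') * (S.n i)⁻¹ := by
      rw [← e2]; group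
    have e4 : (S.x i t * S.n i * (u * m))⁻¹ * (S.x i t' * S.n i * (u' * m)) =
        (u * m)⁻¹ * (S.n i)⁻¹ * ((S.x i t)⁻¹ * S.x i t') * S.n i * (u' * m) := by group
    rw [e4, e3]
    simp only [b]
    group
  · intro q hq
    obtain ⟨u, hu, rfl⟩ := S.mem_orb.1 hq
    obtain ⟨t, ht⟩ := S.split i u hu
    refine ⟨(t, (((S.n i)⁻¹ * ((S.x i t)⁻¹ * u) * S.n i * m : G) : G ⧸ S.U)),
      Finset.mem_product.2 ⟨Finset.mem_univ _, S.mem_orb.2 ⟨_, ht, rfl⟩⟩, ?_⟩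
    rw [MulAction.Quotient.smul_coe, smul_eq_mul]
    congr 1; group

theorem card_orb_n {i : I} {m : G} (hm : m ∈ S.N) (hp : S.Pos i m) :
    (S.orb (S.n i * m)).card = Fintype.card F * (S.orb m).card := by
  rw [Finset.card_eq_sum_ones, S.sum_orb_n _ hm hp]
  simp

theorem card_orb_lt {i : I} {m : G} (hm : m ∈ S.N) (hp : S.Pos i m) :
    (S.orb m).card < (S.orb (S.n i * m)).card := by
  rw [S.card_orb_n hm hp]
  have h1 : 0 < (S.orb m).card := Finset.card_pos.2 ⟨_, S.self_mem_orb m⟩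
  have h2 : 1 < Fintype.card F := Fintype.one_lt_card
  nlinarith

theorem N_induction {P : G → Prop} (hH : ∀ a ∈ S.H, P a)
    (hn : ∀ i, ∀ m ∈ S.N, S.Pos i m → P m → P (S.n i * m)) {m : G} (hm : m ∈ S.N) : P m := by
  induction hk : (S.orb m).card using Nat.strong_induction_on generalizing m with
  | _ k ih =>
    by_cases h : ∀ i, S.Pos i m
    · exact hH m (S.base m hm h)
    obtain ⟨i, hi⟩ := not_forall.1 h
    have h1 : S.Pos i ((S.n i)⁻¹ * m) := (S.dich i m hm).resolve_left hi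
    have h2 : (S.n i)⁻¹ * m ∈ S.N := mul_mem (inv_mem (S.n_mem i)) hm
    have h3 := S.card_orb_lt h2 h1
    have h4 := hn i _ h2 h1
    rw [mul_inv_cancel_left] at h3 h4
    exact h4 (ih _ (hk ▸ h3) h2 rfl)

section ops
variable {k : Type*} [CommRing k] {V : Type*} [AddCommGroup V] [Module k V]
  (ρ : Representation k G V)

/-- fixed by `U` -/
def Fx (v : V) : Prop := ∀ u ∈ S.U, ρ u v = v

/-- the image of a vector under a coset -/
noncomputable def ev (v : V) (q : G ⧸ S.U) : V := ρ q.out v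

/-- the Hecke operator of a double coset -/
noncomputable def T (g : G) : V →ₗ[k] V := ∑ q ∈ S.orb g, ρ q.out

theorem T_apply (g : G) (v : V) : S.T ρ g v = ∑ q ∈ S.orb g, S.ev ρ v q := by
  simp [T, ev]

variable {S ρ}

theorem rho_mul (a b : G) (v : V) : ρ (a * b) v = ρ a (ρ b v) := by rw [map_mul]; rfl

theorem Fx.ev_mk {v : V} (hv : S.Fx ρ v) (g : G) : S.ev ρ v (g : G ⧸ S.U) = ρ g v := by
  obtain ⟨u, hu⟩ := QuotientGroup.mk_out_eq_mul S.U g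
  rw [ev, hu, rho_mul, hv _ u.2]

theorem Fx.rho_ev {v : V} (hv : S.Fx ρ v) (a : G) (q : G ⧸ S.U) :
    ρ a (S.ev ρ v q) = S.ev ρ v (a • q) := by
  induction q using QuotientGroup.induction_on with
  | H z => rw [MulAction.Quotient.smul_coe, hv.ev_mk, hv.ev_mk, smul_eq_mul, rho_mul]

theorem Fx.smul {v : V} (hv : S.Fx ρ v) (c : k) : S.Fx ρ (c • v) := fun u hu => by
  rw [map_smul, hv u hu]

theorem Fx.rho_H {v : V} (hv : S.Fx ρ v) {a : G} (ha : a ∈ S.H) : S.Fx ρ (ρ a v) := fun u hu => by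
  rw [← rho_mul, show u * a = a * (a⁻¹ * u * a) by group, rho_mul, hv _ (S.H_U' ha hu)]

theorem Fx.rho_T {v : V} (hv : S.Fx ρ v) {a : G} (ha : ∀ u ∈ S.U, a * u * a⁻¹ ∈ S.U)
    (ha' : ∀ u ∈ S.U, a⁻¹ * u * a ∈ S.U) (g : G) : ρ a (S.T ρ g v) = S.T ρ (a * g) v := by
  rw [T_apply, T_apply, map_sum, ← S.sum_orb_smul _ ha ha']
  exact Finset.sum_congr rfl fun q _ => hv.rho_ev a q

theorem T_congr {g y : G} (h : S.orb g = S.orb y) : S.T ρ g = S.T ρ y := by rw [T, T, h]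

theorem Fx.T {v : V} (hv : S.Fx ρ v) (g : G) : S.Fx ρ (S.T ρ g v) := fun u hu => by
  rw [hv.rho_T (fun _ h => mul_mem (mul_mem hu h) (inv_mem hu))
    (fun _ h => mul_mem (mul_mem (inv_mem hu) h) hu),
    T_congr (S.orb_eq_of_mem (S.mem_orb.2 ⟨u, hu, rfl⟩))]

theorem Fx.H_T {v : V} (hv : S.Fx ρ v) {a : G} (ha : a ∈ S.H) (g : G) :
    ρ a (S.T ρ g v) = S.T ρ (a * g) v :=
  hv.rho_T (S.H_U a ha) (fun _ h => S.H_U' ha h) g

theorem Fx.T_H {v : V} (hv : S.Fx ρ v) {a : G} (ha : a ∈ S.H) : S.T ρ a v = ρ a v := by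
  rw [T_apply, S.orb_H ha, Finset.sum_singleton, hv.ev_mk]

theorem Fx.T_one {v : V} (hv : S.Fx ρ v) : S.T ρ 1 v = v := by
  rw [hv.T_H (one_mem _), map_one]; rfl

theorem Fx.T_central {v : V} (hv : S.Fx ρ v) {a : G} (ha : a ∈ Subgroup.center G) :
    S.T ρ a v = ρ a v := by
  rw [T_apply, S.orb_central ha, Finset.sum_singleton, hv.ev_mk]

theorem Fx.T_mul_H {v : V} (hv : S.Fx ρ v) {a : G} (ha : a ∈ S.H) (g : G) :
    S.T ρ (g * a) v = S.T ρ g (ρ a v) := by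
  rw [T_apply, T_apply]
  have key : ∀ {a : G}, a ∈ S.H → ∀ {y z : G}, (y : G ⧸ S.U) = z →
      ((y * a : G) : G ⧸ S.U) = (z * a : G) := fun {a} ha {y z} e => by
    have := S.H_U' ha (QuotientGroup.eq.1 e)
    exact QuotientGroup.eq.2 (by convert this using 1; group)
  refine Finset.sum_bij' (fun q _ => ((q.out * a⁻¹ : G) : G ⧸ S.U))
    (fun q _ => ((q.out * a : G) : G ⧸ S.U)) ?_ ?_ ?_ ?_ ?_
  · intro q hq
    obtain ⟨u, hu, rfl⟩ := S.mem_orb.1 hq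
    exact S.mem_orb.2 ⟨u, hu, (key (inv_mem ha) (QuotientGroup.out_eq' _)).trans (by congr 1; group)⟩
  · intro q hq
    obtain ⟨u, hu, rfl⟩ := S.mem_orb.1 hq
    exact S.mem_orb.2 ⟨u, hu, (key ha (QuotientGroup.out_eq' _)).trans (by congr 1; group)⟩
  · intro q _
    rw [key ha (QuotientGroup.out_eq' _), inv_mul_cancel_right, QuotientGroup.out_eq']
  · intro q _
    rw [key (inv_mem ha) (QuotientGroup.out_eq' _), mul_inv_cancel_right, QuotientGroup.out_eq']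
  · intro q _
    rw [(hv.rho_H ha).ev_mk, ← rho_mul, inv_mul_cancel_right, ev]

theorem Fx.T_n_mul' {v : V} (hv : S.Fx ρ v) {i : I} {m : G} (hm : m ∈ S.N) (hp : S.Pos i m) :
    S.T ρ (S.n i * m) v = ∑ t, ρ (S.x i t * S.n i) (S.T ρ m v) := by
  rw [T_apply, S.sum_orb_n _ hm hp]
  refine Finset.sum_congr rfl fun t _ => ?_
  rw [T_apply, map_sum]
  exact Finset.sum_congr rfl fun q _ => (hv.rho_ev _ q).symm

theorem Fx.T_n {v : V} (hv : S.Fx ρ v) (i : I) :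
    S.T ρ (S.n i) v = ∑ t, ρ (S.x i t * S.n i) v := by
  have := hv.T_n_mul' (one_mem _) (S.pos_one i)
  rwa [mul_one, hv.T_one] at this

theorem Fx.T_n_mul {v : V} (hv : S.Fx ρ v) {i : I} {m : G} (hm : m ∈ S.N) (hp : S.Pos i m) :
    S.T ρ (S.n i * m) v = S.T ρ (S.n i) (S.T ρ m v) := by
  rw [hv.T_n_mul' hm hp, (hv.T m).T_n]

theorem Fx.sum_x {v : V} (hv : S.Fx ρ v) (i : I) {u a : G} (hu : u ∈ S.U) (ha : a ∈ S.H) :
    ∑ t, ρ (S.x i t * (u * a * S.n i)) v = ρ a (S.T ρ (S.n i) v) := by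
  obtain ⟨s, hs⟩ := S.split i u hu
  have ha' := S.N_H _ (S.n_mem i) a ha
  rw [hv.H_T ha, show a * S.n i = S.n i * ((S.n i)⁻¹ * a * S.n i) by group, hv.T_mul_H ha',
    (hv.rho_H ha').T_n]
  refine Fintype.sum_equiv (Equiv.addRight s) _ _ fun t => ?_
  rw [Equiv.coe_addRight, S.x_add, ← (hv.rho_H ha') _ hs, ← rho_mul, ← rho_mul]
  congr 2; group

/-- the quadratic relation -/
theorem Fx.T_sq [DecidableEq F] {v : V} (hv : S.Fx ρ v) (i : I) :
    S.T ρ (S.n i) (S.T ρ (S.n i) v) = Fintype.card F • ρ (S.n i * S.n i) v +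
      ∑ s : Fˣ, ρ (S.h i s) (S.T ρ (S.n i) v) := by
  rw [(hv.T _).T_n]
  conv_lhs => rw [hv.T_n]
  simp only [map_sum, ← rho_mul]
  rw [Finset.sum_comm, ← Finset.add_sum_erase _ _ (Finset.mem_univ 0)]
  congr 1
  · rw [← Finset.card_univ, ← Finset.sum_const]
    refine Finset.sum_congr rfl fun t _ => ?_
    rw [S.x_zero, one_mul, mul_assoc, rho_mul, hv.rho_H (S.n_sq i) _ (S.x_mem i t)]
  · symm
    refine Finset.sum_bij (fun s _ => -((s⁻¹ : Fˣ) : F)) (fun s _ => by simp) ?_ ?_ ?_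
    · intro a _ b _ e
      simpa [← Units.ext_iff] using e
    · intro t ht
      have h0 : t ≠ 0 := (Finset.mem_erase.1 ht).1
      exact ⟨(Units.mk0 (-t) (neg_ne_zero.2 h0))⁻¹, Finset.mem_univ _, by simp⟩
    · intro s _
      obtain ⟨u, hu, u', hu', e⟩ := S.nxn i s
      rw [← hv.sum_x i hu (S.h_mem i s)]
      refine Finset.sum_congr rfl fun t _ => ?_
      rw [← hv _ hu', ← rho_mul, mul_assoc, ← e, hv _ hu']
      congr 2; group

end ops

open Classical in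
/-- the `U`-orbits on the cosets of `U` -/
noncomputable def orbs : Finset (Finset (G ⧸ S.U)) := Finset.univ.filter fun o => ∃ m ∈ S.N, S.orb m = o

open Classical in
/-- a monomial representative of an orbit -/
noncomputable def rep (o : Finset (G ⧸ S.U)) : G := if h : ∃ m ∈ S.N, S.orb m = o then h.choose else 1

theorem rep_spec {o : Finset (G ⧸ S.U)} (ho : o ∈ S.orbs) : S.rep o ∈ S.N ∧ S.orb (S.rep o) = o := by
  have h : ∃ m ∈ S.N, S.orb m = o := by simpa [orbs] using ho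
  rw [rep, dif_pos h]
  exact h.choose_spec

theorem sum_orbs {A : Type*} [AddCommMonoid A] [Fintype (G ⧸ S.U)] (f : G ⧸ S.U → A) :
    ∑ q, f q = ∑ o ∈ S.orbs, ∑ q ∈ S.orb (S.rep o), f q := by
  classical
  rw [← Finset.sum_fiberwise_of_maps_to (t := S.orbs) (g := fun q : G ⧸ S.U => S.orb q.out)]
  · refine Finset.sum_congr rfl fun o ho => Finset.sum_congr ?_ fun _ _ => rfl
    ext q
    rw [Finset.mem_filter]
    constructor
    · rintro ⟨-, h⟩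
      rw [(S.rep_spec ho).2, ← h]
      simpa using S.self_mem_orb q.out
    · intro h
      refine ⟨Finset.mem_univ _, ?_⟩
      rw [← (S.rep_spec ho).2]
      exact S.orb_eq_of_mem (by simpa using h)
  · intro q _
    obtain ⟨u, hu, m, hm, u', hu', e⟩ := S.bruhat q.out
    simp only [orbs, Finset.mem_filter, Finset.mem_univ, true_and]
    exact ⟨m, hm, (S.orb_eq_of_mem (S.mk_mem_orb.2 ⟨u, hu, u', hu', e⟩)).symm⟩

open Classical in
/-- the number of conjugates of `g` in a coset -/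
noncomputable def cc (g : G) (q : G ⧸ S.U) : ℕ := ((cls g).filter fun y : G => (y : G ⧸ S.U) = q).card

theorem cc_smul (g a : G) (ha : a ∈ S.U) (q : G ⧸ S.U) : S.cc g (a • q) = S.cc g q := by
  classical
  have key : ∀ a ∈ S.U, ∀ q : G ⧸ S.U, ∀ y ∈ (cls g).filter fun y : G => (y : G ⧸ S.U) = q,
      a * y * a⁻¹ ∈ (cls g).filter fun y : G => (y : G ⧸ S.U) = a • q := by
    intro a ha q y hy
    rw [Finset.mem_filter, mem_cls] at hy ⊢
    refine ⟨hy.1.trans (isConj_iff.2 ⟨a, rfl⟩), ?_⟩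
    rw [← hy.2, QuotientGroup.mk_mul_of_mem _ (inv_mem ha)]; rfl
  symm
  unfold cc
  refine Finset.card_bij' (fun y _ => a * y * a⁻¹) (fun y _ => a⁻¹ * y * a⁻¹⁻¹) (key a ha q) ?_ ?_ ?_
  · intro y hy
    simpa using key _ (inv_mem ha) _ y hy
  · intro y _; group
  · intro y _; group

theorem Fx.sum_cls {k : Type*} [CommRing k] {V : Type*} [AddCommGroup V] [Module k V]
    {S : SBN G F I} {ρ : Representation k G V} {v : V} (hv : S.Fx ρ v) (g : G) :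
    ∑ y ∈ cls g, ρ y v = ∑ o ∈ S.orbs, (S.cc g (S.rep o) : k) • S.T ρ (S.rep o) v := by
  classical
  have : Fintype (G ⧸ S.U) := Fintype.ofFinite _
  rw [← Finset.sum_fiberwise (s := cls g) (g := fun y : G => (y : G ⧸ S.U)), S.sum_orbs]
  refine Finset.sum_congr rfl fun o _ => ?_
  rw [T_apply, Finset.smul_sum]
  refine Finset.sum_congr rfl fun q hq => ?_
  obtain ⟨u, hu, rfl⟩ := S.mem_orb.1 hq
  rw [← S.cc_smul g u hu, Nat.cast_smul_eq_nsmul, cc, ← Finset.sum_const]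
  refine Finset.sum_congr (by ext y; rw [Finset.mem_filter, Finset.mem_filter]; rfl) fun y hy => ?_
  rw [← hv.ev_mk, (Finset.mem_filter.1 hy).2]; rfl

end SBN
end Cfsg.Agent.StB
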